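import Groth.Agent.Lib.GerbBand16.IsoPt
import Groth.Agent.Lib.Gabber15.Sheaf
import Groth.Agent.Lib.StAlg.Diag
import Groth.Agent.Lib.StAlg16.Setoid

/-! Morphisms between two objects of an algebraic stack descend along fpqc covers. -/

universe u

open CategoryTheory CategoryTheory.Functor CategoryTheory.Limits AlgebraicGeometry Opposite

set_option linter.style.haveILetI false
set_option linter.unusedSectionVars false
set_option backward.isDefEq.respectTransparency false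
set_option backward.isDefEq.respectTransparency.types false

namespace Groth.Agent.GerbDesc16

open Groth.Agent.StAlg Groth.Agent.StAlg16 AlgSt
open Groth.Agent.FC16 hiding overMap
open Groth.Agent.GerbBand16 (IsoPt)

variable {S : Scheme.{u}} {𝒳 𝒴 : AlgSt.Cat S} {T : Over S}

theorem isSheaf_fpqc_isoPt (hX : IsAlgStack Scheme.fppfPrecoverage 𝒳) (y₁ y₂ : FibCat.overCat T ⥤ᵇ 𝒳) :
    Presheaf.IsSheaf (Scheme.fpqcTopology.over S) (IsoPt.psh y₁ y₂ hX.isStack.1) := by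
  let z : FibCat.overCat T ⥤ᵇ FibCat.fp (FibCat.toSelf 𝒳) (FibCat.toSelf 𝒳) :=
    FibCat.fpLift y₁ y₂ (eqToIso (selfOver_functor_eq _ _))
  have hp : ∀ ⦃V : Over S⦄ (W : Sieve V), W ∈ AlgSp.J S V → Quot16.GluesHom W 𝒳 := fun V W hW =>
    GerbBand16.gluesHom_of_isPrestack (StAlg.isStack_prestack hX.isStack) hW
  obtain ⟨E, hE, -⟩ := GerbBand16.exists_equiv hX.isStack.1 z hp
  obtain ⟨F, e, he⟩ := hX.diag T z
  obtain ⟨G, hG, -, -⟩ := exists_inverse hE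
  let Φ := BasedFunctor.comp e G
  have hΦ : FibCat.IsEquivOver Φ := isEquivOver_comp he hG
  let φ : F.obj ⟶ GerbBand16.isoSheaf hX.isStack.1 z hp := ObjectProperty.homMk (mapOf Φ)
  haveI : IsIso φ := by
    haveI : IsIso ((sheafToPresheaf (AlgSp.J S) (Type (u + 1))).map φ) := isIso_mapOf hΦ
    exact isIso_of_reflects_iso φ (sheafToPresheaf (AlgSp.J S) (Type (u + 1)))
  have h : AlgSp.IsAlgSpace (GerbBand16.isoSheaf hX.isStack.1 z hp) :=
    (AlgSp.isAlgSpace_iff_of_iso (asIso φ)).1 F.property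
  exact Gabber15.isSheaf_fpqc ⟨_, h⟩

/-- every vertical morphism between the images lifts uniquely -/
def Good (f : 𝒳 ⥤ᵇ 𝒴) (a a' : 𝒳.obj) : Prop :=
  ∀ V : Over S, 𝒳.p.obj a = V → 𝒳.p.obj a' = V → ∀ b : f.obj a ⟶ f.obj a', 𝒴.p.IsHomLift (𝟙 V) b →
    ∃! μ : a ⟶ a', f.map μ = b

theorem lift_of_map {f : 𝒳 ⥤ᵇ 𝒴} {a a' : 𝒳.obj} {V : Over S} {b : f.obj a ⟶ f.obj a'}
    [𝒴.p.IsHomLift (𝟙 V) b] {μ : a ⟶ a'} (h : f.map μ = b) : 𝒳.p.IsHomLift (𝟙 V) μ := by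
  haveI : 𝒴.p.IsHomLift (𝟙 V) (f.map μ) := h ▸ ‹_›
  exact BasedFunctor.isHomLift_map f _ _

theorem Good.of_iso (hY : FibCat.IsFibGrpd 𝒴.p) {f : 𝒳 ⥤ᵇ 𝒴} {a a' a₁ a₁' : 𝒳.obj} {V : Over S}
    (h : Good f a a') (i : a ≅ a₁) (i' : a' ≅ a₁') [𝒳.p.IsHomLift (𝟙 V) i.hom] [𝒳.p.IsHomLift (𝟙 V) i'.hom] :
    Good f a₁ a₁' := by
  intro W hW hW' b hb
  haveI := hb
  obtain rfl : V = W := (IsHomLift.codomain_eq 𝒳.p (𝟙 V) i.hom).symm.trans hW
  haveI : 𝒴.p.IsHomLift (𝟙 V) (f.map i.hom) := BasedFunctor.preserves_isHomLift f _ _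
  haveI : 𝒴.p.IsHomLift (𝟙 V) (f.map i'.inv) := BasedFunctor.preserves_isHomLift f _ _
  haveI : 𝒴.p.IsHomLift (𝟙 V) (f.map i.hom ≫ b ≫ f.map i'.inv) := by
    simpa using (inferInstance : 𝒴.p.IsHomLift (𝟙 V ≫ 𝟙 V ≫ 𝟙 V) (f.map i.hom ≫ b ≫ f.map i'.inv))
  obtain ⟨μ, hμ, hu⟩ := h V (IsHomLift.domain_eq 𝒳.p (𝟙 V) i.hom) (IsHomLift.domain_eq 𝒳.p (𝟙 V) i'.hom)
    (f.map i.hom ≫ b ≫ f.map i'.inv) inferInstance
  have c1 : f.map i.inv ≫ f.map i.hom = 𝟙 _ := (f.toFunctor.mapIso i).inv_hom_id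
  have c2 : f.map i.hom ≫ f.map i.inv = 𝟙 _ := (f.toFunctor.mapIso i).hom_inv_id
  have c3 : f.map i'.inv ≫ f.map i'.hom = 𝟙 _ := (f.toFunctor.mapIso i').inv_hom_id
  refine ⟨i.inv ≫ μ ≫ i'.hom, ?_, fun μ' hμ' => ?_⟩
  · show f.map (i.inv ≫ μ ≫ i'.hom) = b
    rw [f.toFunctor.map_comp, f.toFunctor.map_comp, hμ, Category.assoc, Category.assoc, c3, Category.comp_id,
      ← Category.assoc, c1, Category.id_comp]
  · have e : f.map (i.hom ≫ μ' ≫ i'.inv) = f.map i.hom ≫ b ≫ f.map i'.inv := by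
      rw [f.toFunctor.map_comp, f.toFunctor.map_comp, hμ']
    rw [← hu _ e]
    simp

section Descent

variable {y₁ y₂ : FibCat.overCat T ⥤ᵇ 𝒳} (f : 𝒳 ⥤ᵇ 𝒴)

/-- the image of a vertical morphism -/
def mapPt {V : Over S} (x : IsoPt y₁ y₂ V) : IsoPt (BasedFunctor.comp y₁ f) (BasedFunctor.comp y₂ f) V where
  g := x.g
  h := f.map x.h
  lift := by
    haveI := x.lift
    exact BasedFunctor.preserves_isHomLift f _ _

theorem mapPt_map (hX : FibCat.IsFibGrpd 𝒳.p) (hY : FibCat.IsFibGrpd 𝒴.p) {V W : Over S} (k : W ⟶ V)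
    (x : IsoPt y₁ y₂ V) : IsoPt.map hY k (mapPt f x) = mapPt f (IsoPt.map hX k x) :=
  IsoPt.map_eq hY k (mapPt f x) (mapPt f (IsoPt.map hX k x)) (GerbBand16.ovHom k x.g) rfl (by
    show f.map (IsoPt.map hX k x).h ≫ f.map (y₂.map (GerbBand16.ovHom k x.g)) =
      f.map (y₁.map (GerbBand16.ovHom k x.g)) ≫ f.map x.h
    exact (f.toFunctor.map_comp _ _).symm.trans ((congrArg f.map (IsoPt.map_rel hX k x)).trans
      (f.toFunctor.map_comp _ _)))

variable {f}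

theorem existsUnique_pt {V : Over S} {g : V ⟶ T} (h : Good f (y₁.obj (Over.mk g)) (y₂.obj (Over.mk g)))
    (b : IsoPt (BasedFunctor.comp y₁ f) (BasedFunctor.comp y₂ f) V) (hb : b.g = g) :
    ∃! x : IsoPt y₁ y₂ V, mapPt f x = b := by
  subst hb
  obtain ⟨g, b, hb⟩ := b
  haveI := hb
  obtain ⟨μ, hμ, hu⟩ := h V (y₁.w_obj _) (y₂.w_obj _) b hb
  refine ⟨⟨g, μ, lift_of_map hμ⟩, ?_, ?_⟩
  · show IsoPt.mk g (f.map μ) _ = IsoPt.mk g b hb
    congr 1
  · rintro ⟨g', h', l'⟩ e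
    obtain rfl : g' = g := congrArg IsoPt.g e
    have e' := IsoPt.homAt_congr e (g := g') rfl rfl
    obtain rfl : h' = μ := hu h' e'
    rfl

theorem good_of_cover (hX : IsAlgStack Scheme.fppfPrecoverage 𝒳) (hY : IsAlgStack Scheme.fppfPrecoverage 𝒴)
    {R : Sieve T} (hR : R ∈ (Scheme.fpqcTopology.over S) T)
    (h : ∀ (W : Over S) (l : W ⟶ T), R l → Good f (y₁.obj (Over.mk l)) (y₂.obj (Over.mk l)))
    {V : Over S} (g : V ⟶ T) : Good f (y₁.obj (Over.mk g)) (y₂.obj (Over.mk g)) := by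
  intro V' hV₁ hV₂ b hb
  obtain rfl : V = V' := (y₁.w_obj (Over.mk g)).symm.trans hV₁
  have gX := hX.isStack.1
  have gY := hY.isStack.1
  have sA := (isSheaf_iff_isSheaf_of_type _ _).1 (isSheaf_fpqc_isoPt hX y₁ y₂)
  have sB := (isSheaf_iff_isSheaf_of_type _ _).1
    (isSheaf_fpqc_isoPt hY (BasedFunctor.comp y₁ f) (BasedFunctor.comp y₂ f))
  let B : IsoPt (BasedFunctor.comp y₁ f) (BasedFunctor.comp y₂ f) V := ⟨g, b, hb⟩
  let R' := R.pullback g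
  have hR' : R' ∈ (Scheme.fpqcTopology.over S) V := (Scheme.fpqcTopology.over S).pullback_stable g hR
  choose x hx hu using fun (W : Over S) (l : W ⟶ V) (hl : R' l) =>
    existsUnique_pt (h W (l ≫ g) hl) (IsoPt.map gY l B) rfl
  let fam : Presieve.FamilyOfElements (IsoPt.psh y₁ y₂ gX) (R' : Presieve V) := fun W l hl => x W l hl
  have hfam : fam.Compatible := by
    rw [Presieve.compatible_iff_sieveCompatible]
    intro W W' l k hl
    refine (hu W' (k ≫ l) (R'.downward_closed hl k) (IsoPt.map gX k (x W l hl)) ?_).symm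
    refine (mapPt_map f gX gY k _).symm.trans ?_
    rw [hx, IsoPt.map_comp]
  obtain ⟨a, ha, hau⟩ := sA R' hR' fam hfam
  have haB : mapPt f a = B := (sB R' hR').isSeparatedFor.ext fun W l hl => by
    show IsoPt.map gY l (mapPt f a) = IsoPt.map gY l B
    rw [mapPt_map f gX gY, show IsoPt.map gX l a = x W l hl from ha l hl, hx]
  have hag : a.g = g := congrArg IsoPt.g haB
  refine ⟨a.homAt g hag, ?_, fun μ' hμ' => ?_⟩
  · obtain ⟨g', h', l'⟩ := a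
    subst hag
    exact IsoPt.homAt_congr haB (g := g') rfl rfl
  · haveI := hb
    let a' : IsoPt y₁ y₂ V := ⟨g, μ', lift_of_map hμ'⟩
    have ha' : mapPt f a' = B := IsoPt.eq_of_homAt (g := g) rfl rfl hμ'
    have : a' = a := hau a' fun W l hl => hu W l hl (IsoPt.map gX l a') (by
      show mapPt f (IsoPt.map gX l a') = IsoPt.map gY l B
      rw [← mapPt_map f gX gY, ha'])
    exact IsoPt.homAt_congr this (g := g) rfl hag

end Descent

end Groth.Agent.GerbDesc16
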