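import Groth.Agent.Lib.GerbDesc16.Desc
import Groth.Agent.Lib.ResGerb16.Basic
import Groth.Agent.Lib.GerbAbs16.Chart

/-! A morphism from a one point stack which is fully faithful at a field point is fully faithful. -/

universe u

open CategoryTheory CategoryTheory.Functor CategoryTheory.Limits AlgebraicGeometry Opposite

set_option linter.style.haveILetI false
set_option linter.unusedSectionVars false
set_option backward.isDefEq.respectTransparency false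
set_option backward.isDefEq.respectTransparency.types false

namespace Groth.Agent.GerbDesc16

open Groth.Agent.StAlg Groth.Agent.StAlg16 AlgSt
open Groth.Agent.FC16 hiding overMap

variable {S : Scheme.{u}} {𝒳 𝒴 : AlgSt.Cat S} {f : 𝒳 ⥤ᵇ 𝒴}

theorem full_of_good (hX : FibCat.IsFibGrpd 𝒳.p) (hY : FibCat.IsFibGrpd 𝒴.p) (h : ∀ a a', Good f a a') :
    f.toFunctor.Full := by
  haveI := FC16.isFibered hX
  refine full_of_fib (presCart_of_isFibGrpd hY f) fun U a a' b hb => ?_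
  haveI := hb
  obtain ⟨μ, hμ, -⟩ := h a a' U ((f.w_obj a).symm.trans (IsHomLift.domain_eq 𝒴.p (𝟙 U) b))
    ((f.w_obj a').symm.trans (IsHomLift.codomain_eq 𝒴.p (𝟙 U) b)) b hb
  exact ⟨μ, lift_of_map hμ, hμ⟩

theorem faithful_of_good (hX : FibCat.IsFibGrpd 𝒳.p) (hY : FibCat.IsFibGrpd 𝒴.p) (h : ∀ a a', Good f a a') :
    f.toFunctor.Faithful := by
  haveI := FC16.isFibered hX
  refine faithful_of_fib (presCart_of_isFibGrpd hY f) fun U a a' χ χ' hχ hχ' e => ?_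
  haveI := hχ
  obtain ⟨μ, -, hu⟩ := h a a' U (IsHomLift.domain_eq 𝒳.p (𝟙 U) χ) (IsHomLift.codomain_eq 𝒳.p (𝟙 U) χ)
    (f.map χ) (BasedFunctor.preserves_isHomLift f _ _)
  exact (hu χ rfl).trans (hu χ' e.symm).symm

/-- goodness passes from an fppf cover -/
theorem good_of_fppf (hX : IsAlgStack Scheme.fppfPrecoverage 𝒳) (hY : IsAlgStack Scheme.fppfPrecoverage 𝒴)
    {W : Over S} {z : FibCat.overCat W ⥤ᵇ 𝒳}
    (hzp : AlgSt.RepByAlgSpWith (AlgSp.LocP @LocallyOfFinitePresentation) z)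
    (hzs : AlgSt.RepByAlgSpWith AlgSp.IsSurjectiveMor z) (hzf : AlgSt.RepByAlgSpWith (AlgSp.LocP @Flat) z)
    (h : ∀ (V : Over S) (g g' : V ⟶ W), Good f (z.obj (Over.mk g)) (z.obj (Over.mk g'))) (a a' : 𝒳.obj) :
    Good f a a' := by
  intro T hT hT'
  have gX := hX.isStack.1
  haveI := FC16.isFibered gX
  let y₁ : FibCat.overCat T ⥤ᵇ 𝒳 := ofObj hT
  let y₂ : FibCat.overCat T ⥤ᵇ 𝒳 := ofObj hT'
  obtain ⟨T₁, κ₁, m₁, hc₁, ⟨j₁⟩⟩ := exists_cover_lift gX (overCat_isFibGrpd W) hzf hzp hzs T y₁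
  obtain ⟨T₂, κ₂, m₂, hc₂, ⟨j₂⟩⟩ := exists_cover_lift gX (overCat_isFibGrpd W) hzf hzp hzs T y₂
  have hmem : ∀ {T' : Over S} (κ : T' ⟶ T),
      AlgSp.IsFppfCover (fun _ : PUnit.{u + 1} => (AlgSp.yon S).obj T') (fun _ => (AlgSp.yon S).map κ) →
      Sieve.generate (Presieve.singleton κ) ∈ QuotSh.J Scheme.fppfPrecoverage S T := by
    intro T' κ hc
    haveI : Flat κ.left := (locP_yon_iff κ).1 (hc.1 PUnit.unit).1
    haveI : LocallyOfFinitePresentation κ.left := (locP_yon_iff κ).1 (hc.1 PUnit.unit).2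
    haveI : Surjective κ.left := ⟨fun t => by
      obtain ⟨_, p, hp⟩ := hc.2 (AlgSp.Points.schemeHomeo _ t)
      obtain ⟨s, rfl⟩ := (AlgSp.Points.schemeHomeo T').surjective p
      exact ⟨s, (AlgSp.Points.schemeHomeo _).injective ((AlgSp.Points.map_yon_map_apply κ s).symm.trans hp)⟩⟩
    exact GerbAbs.Chart.mem_of_cover κ (Sieve.le_generate _ _ _ (Presieve.singleton_self κ))
  let R := Sieve.generate (Presieve.singleton κ₁) ⊓ Sieve.generate (Presieve.singleton κ₂)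
  have hR : R ∈ (Scheme.fpqcTopology.over S) T :=
    Scheme.fppfTopology_le_fpqcTopology _
      ((QuotSh.J Scheme.fppfPrecoverage S).intersection_covering (hmem κ₁ hc₁) (hmem κ₂ hc₂))
  have key : Good f (y₁.obj (Over.mk (𝟙 T))) (y₂.obj (Over.mk (𝟙 T))) := by
    refine good_of_cover hX hY hR (fun V l hl => ?_) (𝟙 T)
    obtain ⟨⟨_, l₁, _, ⟨⟩, e₁⟩, ⟨_, l₂, _, ⟨⟩, e₂⟩⟩ := hl
    haveI := isHomLift_appIso_hom j₁ (Over.mk l₁) (U := V) rfl
    haveI := isHomLift_appIso_hom j₂ (Over.mk l₂) (U := V) rfl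
    haveI : 𝒳.p.IsHomLift (𝟙 V) (appIso j₁ (Over.mk l₁)).symm.hom :=
      inferInstanceAs (𝒳.p.IsHomLift (𝟙 V) (appIso j₁ (Over.mk l₁)).inv)
    haveI : 𝒳.p.IsHomLift (𝟙 V) (appIso j₂ (Over.mk l₂)).symm.hom :=
      inferInstanceAs (𝒳.p.IsHomLift (𝟙 V) (appIso j₂ (Over.mk l₂)).inv)
    have hz : Good f (z.obj (m₁.obj (Over.mk l₁))) (z.obj (m₂.obj (Over.mk l₂))) := by
      have w₁ : (m₁.obj (Over.mk l₁)).left = V := m₁.w_obj _
      have w₂ : (m₂.obj (Over.mk l₂)).left = V := m₂.w_obj _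
      revert w₁ w₂
      generalize m₁.obj (Over.mk l₁) = o₁
      generalize m₂.obj (Over.mk l₂) = o₂
      intro w₁ w₂
      obtain ⟨V₁, ⟨⟨⟩⟩, g₁⟩ := o₁
      obtain ⟨V₂, ⟨⟨⟩⟩, g₂⟩ := o₂
      obtain rfl : V₁ = V := w₁
      obtain rfl : V₂ = V₁ := w₂
      exact h V₂ g₁ g₂
    have := hz.of_iso hY.isStack.1 (V := V) (appIso j₁ (Over.mk l₁)).symm (appIso j₂ (Over.mk l₂)).symm
    rw [← e₁]
    show Good f (y₁.obj (Over.mk (l₁ ≫ κ₁))) (y₂.obj (Over.mk (l₁ ≫ κ₁)))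
    conv => arg 3; rw [e₁, ← e₂]
    exact this
  haveI := ofObjIso_lift (𝒳 := 𝒳) (x := a) hT
  haveI := ofObjIso_lift (𝒳 := 𝒳) (x := a') hT'
  exact (key.of_iso hY.isStack.1 (V := T) (ofObjIso hT) (ofObjIso hT')) T hT hT'

/-- goodness passes between two field points -/
theorem good_field_transfer (hX : IsAlgStack Scheme.fppfPrecoverage 𝒳) (hY : IsAlgStack Scheme.fppfPrecoverage 𝒴)
    [Subsingleton (Points 𝒳)] {k K : Type u} [Field k] [Field K] {a : Spec (CommRingCat.of k) ⟶ S}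
    {b : Spec (CommRingCat.of K) ⟶ S} (p : FibCat.overCat (Over.mk a) ⥤ᵇ 𝒳) (z : FibCat.overCat (Over.mk b) ⥤ᵇ 𝒳)
    (h : ∀ (V : Over S) (g g' : V ⟶ Over.mk a), Good f (p.obj (Over.mk g)) (p.obj (Over.mk g')))
    (T : Over S) (v v' : T ⟶ Over.mk b) : Good f (z.obj (Over.mk v)) (z.obj (Over.mk v')) := by
  have gX := hX.isStack.1
  haveI := FC16.isFibered gX
  let P : FPt 𝒳 := { K := K, str := b, obj := z.obj (Over.mk (𝟙 _)), lies := z.w_obj _ }
  let P' : FPt 𝒳 := { K := k, str := a, obj := p.obj (Over.mk (𝟙 _)), lies := p.w_obj _ }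
  obtain ⟨r, α, β, -⟩ := rel_of_mk_eq gX (Subsingleton.elim (Points.mk P) (Points.mk P'))
  let L : Over S := Over.mk r.str
  let q : L ⟶ Over.mk b := baseHom α
  let q' : L ⟶ Over.mk a := baseHom β
  haveI hα : 𝒳.p.IsHomLift q α := baseHom_lift α
  haveI hβ : 𝒳.p.IsHomLift q' β := baseHom_lift β
  let t : Over.mk q ⟶ Over.mk (𝟙 (Over.mk b)) := toTerm _
  let t' : Over.mk q' ⟶ Over.mk (𝟙 (Over.mk a)) := toTerm _
  haveI : 𝒳.p.IsHomLift q (z.map t) := map_toTerm_lift z (Over.mk q)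
  haveI : 𝒳.p.IsHomLift q' (p.map t') := map_toTerm_lift p (Over.mk q')
  obtain ⟨i, hi, -⟩ := exists_iso_of_lifts gX q (z.map t) α
  obtain ⟨i', hi', -⟩ := exists_iso_of_lifts gX q' (p.map t') β
  haveI := hi
  haveI := hi'
  have hid : ∀ (A : Over S) (c : L ⟶ A), (AlgSt.overMap c).obj (Over.mk (𝟙 L)) = Over.mk c := fun A c =>
    congrArg Over.mk (Category.id_comp c)
  let e₀ : (BasedFunctor.comp (AlgSt.overMap q) z).obj (Over.mk (𝟙 L)) ≅
      (BasedFunctor.comp (AlgSt.overMap q') p).obj (Over.mk (𝟙 L)) :=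
    eqToIso (congrArg z.obj (hid _ q)) ≪≫ i ≪≫ i'.symm ≪≫ eqToIso (congrArg p.obj (hid _ q').symm)
  have he₀ : 𝒳.p.IsHomLift (𝟙 L) e₀.hom := by
    haveI h1 : 𝒳.p.IsHomLift (𝟙 L) (eqToIso (congrArg z.obj (hid _ q))).hom :=
      IsHomLift.eqToHom_domain_lift_id (congrArg z.obj (hid _ q)) (z.w_obj _)
    haveI h2 : 𝒳.p.IsHomLift (𝟙 L) (eqToIso (congrArg p.obj (hid _ q').symm)).hom :=
      IsHomLift.eqToHom_domain_lift_id (congrArg p.obj (hid _ q').symm) (p.w_obj _)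
    show 𝒳.p.IsHomLift (𝟙 L) ((eqToIso (congrArg z.obj (hid _ q))).hom ≫ i.hom ≫ i'.inv ≫
      (eqToIso (congrArg p.obj (hid _ q').symm)).hom)
    simpa using (inferInstance : 𝒳.p.IsHomLift (𝟙 L ≫ 𝟙 L ≫ 𝟙 L ≫ 𝟙 L)
      ((eqToIso (congrArg z.obj (hid _ q))).hom ≫ i.hom ≫ i'.inv ≫
        (eqToIso (congrArg p.obj (hid _ q').symm)).hom))
  obtain ⟨j⟩ := GerbAbs.Chart.exists_functor_iso gX _ _ e₀ he₀
  -- the cover on which both points lift to `L`
  obtain ⟨l, hl⟩ : ∃ l : CommRingCat.of K ⟶ CommRingCat.of r.K, Spec.map l = q.left :=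
    ⟨Spec.preimage q.left, Spec.map_preimage _⟩
  haveI : Flat (Spec.map l) := HasRingHomProperty.Spec_iff.2 (by
    letI := l.hom.toAlgebra
    exact (inferInstance : Module.Flat K r.K))
  haveI : Surjective (Spec.map l) := ⟨fun x => ⟨IsLocalRing.closedPoint r.K, Subsingleton.elim _ _⟩⟩
  haveI : Flat q.left := hl ▸ ‹_›
  haveI : Surjective q.left := hl ▸ ‹_›
  haveI : QuasiCompact q.left := hl ▸ inferInstance
  let π₁ := pullback.fst v.left q.left
  let π₂ := pullback.fst (π₁ ≫ v'.left) q.left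
  let T' : Over S := Over.mk (π₂ ≫ π₁ ≫ T.hom)
  let π : T' ⟶ T := Over.homMk (π₂ ≫ π₁) (Category.assoc _ _ _)
  let s : T' ⟶ L := Over.homMk (π₂ ≫ pullback.snd v.left q.left) (by
    show (π₂ ≫ pullback.snd v.left q.left) ≫ L.hom = π₂ ≫ π₁ ≫ T.hom
    rw [Category.assoc, ← Over.w q, ← Category.assoc (pullback.snd _ _), ← pullback.condition, Category.assoc,
      Over.w v])
  let s' : T' ⟶ L := Over.homMk (pullback.snd (π₁ ≫ v'.left) q.left) (by
    show pullback.snd (π₁ ≫ v'.left) q.left ≫ L.hom = π₂ ≫ π₁ ≫ T.hom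
    rw [← Over.w q, ← Category.assoc, ← pullback.condition, Category.assoc, Category.assoc, Over.w v'])
  have hs : π ≫ v = s ≫ q := Over.OverMorphism.ext (by
    show (π₂ ≫ π₁) ≫ v.left = (π₂ ≫ pullback.snd v.left q.left) ≫ q.left
    rw [Category.assoc, Category.assoc, pullback.condition])
  have hs' : π ≫ v' = s' ≫ q := Over.OverMorphism.ext (by
    show (π₂ ≫ π₁) ≫ v'.left = pullback.snd (π₁ ≫ v'.left) q.left ≫ q.left
    rw [Category.assoc, pullback.condition])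
  have hR : Sieve.generate (Presieve.singleton π) ∈ (Scheme.fpqcTopology.over S) T := by
    haveI : Flat (π₂ ≫ π₁) := inferInstance
    haveI : Surjective (π₂ ≫ π₁) := inferInstance
    haveI : QuasiCompact (π₂ ≫ π₁) := inferInstance
    rw [GrothendieckTopology.mem_over_iff]
    refine GrothendieckTopology.superset_covering _ ?_
      (Precoverage.generate_mem_toGrothendieck (π₂ ≫ π₁).singleton_mem_fpqcPrecoverage)
    rw [Sieve.generate_le_iff]
    rintro _ _ ⟨⟩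
    refine (Sieve.overEquiv_iff _ _).2 ⟨T', ?_, π, Presieve.singleton_self π, ?_⟩
    · exact Over.homMk (𝟙 _) ((Category.id_comp _).trans (Category.assoc _ _ _).symm)
    · exact Over.OverMorphism.ext (Category.id_comp _)
  have key := good_of_cover (f := f) (y₁ := BasedFunctor.comp (AlgSt.overMap v) z)
    (y₂ := BasedFunctor.comp (AlgSt.overMap v') z) hX hY hR (fun V w hw => ?_) (𝟙 T)
  · intro V hV hV'
    have e₁ : (AlgSt.overMap v).obj (Over.mk (𝟙 T)) = Over.mk v := congrArg Over.mk (Category.id_comp v)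
    have e₂ : (AlgSt.overMap v').obj (Over.mk (𝟙 T)) = Over.mk v' := congrArg Over.mk (Category.id_comp v')
    have key' : Good f (z.obj ((AlgSt.overMap v).obj (Over.mk (𝟙 T)))) (z.obj ((AlgSt.overMap v').obj (Over.mk (𝟙 T)))) := key
    rw [e₁, e₂] at key'
    exact key' V hV hV'
  · obtain ⟨_, w, _, ⟨⟩, rfl⟩ := hw
    show Good f (z.obj (Over.mk ((w ≫ π) ≫ v))) (z.obj (Over.mk ((w ≫ π) ≫ v')))
    rw [Category.assoc, hs, Category.assoc, hs', ← Category.assoc, ← Category.assoc]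
    haveI := isHomLift_appIso_hom j (Over.mk (w ≫ s)) (U := V) rfl
    haveI := isHomLift_appIso_hom j (Over.mk (w ≫ s')) (U := V) rfl
    haveI : 𝒳.p.IsHomLift (𝟙 V) (appIso j (Over.mk (w ≫ s))).symm.hom :=
      inferInstanceAs (𝒳.p.IsHomLift (𝟙 V) (appIso j (Over.mk (w ≫ s))).inv)
    haveI : 𝒳.p.IsHomLift (𝟙 V) (appIso j (Over.mk (w ≫ s'))).symm.hom :=
      inferInstanceAs (𝒳.p.IsHomLift (𝟙 V) (appIso j (Over.mk (w ≫ s'))).inv)
    exact (h V ((w ≫ s) ≫ q') ((w ≫ s') ≫ q')).of_iso hY.isStack.1 (V := V)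
      (appIso j (Over.mk (w ≫ s))).symm (appIso j (Over.mk (w ≫ s'))).symm

end Groth.Agent.GerbDesc16
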