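import Groth.Agent.Lib.GerbDesc16.FieldPt
import Groth.Agent.Lib.ResGerb16.Sub
import Groth.Agent.Lib.ResGerb16.Existence

/-! Residual gerbes at a point where the self fibre product of a field point does not change. -/

universe u

open CategoryTheory CategoryTheory.Functor CategoryTheory.Limits AlgebraicGeometry Opposite

set_option linter.style.haveILetI false
set_option linter.unusedSectionVars false
set_option backward.isDefEq.respectTransparency false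
set_option backward.isDefEq.respectTransparency.types false

namespace Groth.Agent.GerbDesc16

open Groth.Agent.StAlg Groth.Agent.StAlg16 AlgSt
open Groth.Agent.FC16 hiding overMap
open Groth.Agent.ResGerb16

variable {S : Scheme.{u}} {𝒳 𝒴 : AlgSt.Cat S}

/-- equivalence of the self fibre products makes vertical morphisms lift uniquely -/
theorem good_of_isEquivOver (gX : FibCat.IsFibGrpd 𝒳.p) (gY : FibCat.IsFibGrpd 𝒴.p) (f : 𝒳 ⥤ᵇ 𝒴)
    {W : Over S} (p : FibCat.overCat W ⥤ᵇ 𝒳)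
    (e : BasedFunctor.comp (FibCat.fpFst p p) (BasedFunctor.comp p f) ≅
      BasedFunctor.comp (FibCat.fpSnd p p) (BasedFunctor.comp p f))
    (he : ∀ c, e.hom.toNatTrans.app c = f.map c.obj.iso.hom)
    (hiso : FibCat.IsEquivOver (FibCat.fpLift (FibCat.fpFst p p) (FibCat.fpSnd p p) e))
    (V : Over S) (g g' : V ⟶ W) : Good f (p.obj (Over.mk g)) (p.obj (Over.mk g')) := by
  intro V' hV hV' b hb
  haveI := hb
  obtain rfl : V = V' := (p.w_obj (Over.mk g)).symm.trans hV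
  haveI : IsIso b := FC16.isIso_of_isHomLift gY (𝟙 V) b
  let Φ := FibCat.fpLift (FibCat.fpFst p p) (FibCat.fpSnd p p) e
  haveI := isEquivalence_of_isEquivOver hiso
  let d : (FibCat.fp (BasedFunctor.comp p f) (BasedFunctor.comp p f)).obj :=
    fpObj (Over.mk g) (Over.mk g') (asIso b) (U := V) rfl hb
  obtain ⟨c, j, hj⟩ := essSurjOver_of_isEquivOver hiso d
  let A : c.obj.fst ≅ Over.mk g :=
    (FibCat.fpFst (BasedFunctor.comp p f) (BasedFunctor.comp p f)).toFunctor.mapIso j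
  let B : c.obj.snd ≅ Over.mk g' :=
    (FibCat.fpSnd (BasedFunctor.comp p f) (BasedFunctor.comp p f)).toFunctor.mapIso j
  let μ : p.obj (Over.mk g) ⟶ p.obj (Over.mk g') := p.map A.inv ≫ c.obj.iso.hom ≫ p.map B.hom
  have hw : f.map (p.map A.hom) ≫ b = e.hom.toNatTrans.app c ≫ f.map (p.map B.hom) := fp_w j.hom
  have cA : f.map (p.map A.inv) ≫ f.map (p.map A.hom) = 𝟙 _ :=
    ((p.toFunctor ⋙ f.toFunctor).mapIso A).inv_hom_id
  have hμ : f.map μ = b := by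
    show f.map (p.map A.inv ≫ c.obj.iso.hom ≫ p.map B.hom) = b
    rw [f.toFunctor.map_comp, f.toFunctor.map_comp, ← he c]
    refine ((congrArg (f.map (p.map A.inv) ≫ ·) hw).symm).trans ?_
    rw [← Category.assoc, cA, Category.id_comp]
  refine ⟨μ, hμ, fun μ' hμ' => ?_⟩
  haveI h1 : 𝒳.p.IsHomLift (𝟙 V) μ := lift_of_map hμ
  haveI h2 : 𝒳.p.IsHomLift (𝟙 V) μ' := lift_of_map hμ'
  haveI : IsIso μ := FC16.isIso_of_isHomLift gX (𝟙 V) μ
  haveI : IsIso μ' := FC16.isIso_of_isHomLift gX (𝟙 V) μ'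
  let c₁ : (FibCat.fp p p).obj := fpObj (Over.mk g) (Over.mk g') (asIso μ) (U := V) rfl h1
  let c₂ : (FibCat.fp p p).obj := fpObj (Over.mk g) (Over.mk g') (asIso μ') (U := V) rfl h2
  let i : Φ.obj c₁ ⟶ Φ.obj c₂ := fpHom (𝟙 _) (𝟙 _) (by
    show f.map (p.map (𝟙 _)) ≫ e.hom.toNatTrans.app c₂ = e.hom.toNatTrans.app c₁ ≫ f.map (p.map (𝟙 _))
    rw [he, he]
    simp only [CategoryTheory.Functor.map_id]
    refine (Category.id_comp _).trans (Eq.trans ?_ (Category.comp_id _).symm)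
    exact hμ'.trans hμ.symm)
  let φ : c₁ ⟶ c₂ := Φ.toFunctor.preimage i
  have hφ : Φ.map φ = i := Φ.toFunctor.map_preimage i
  have h3 : φ.hom.fst = 𝟙 _ := congrArg (fun q => q.hom.fst) hφ
  have h4 : φ.hom.snd = 𝟙 _ := congrArg (fun q => q.hom.snd) hφ
  have hw' : p.map φ.hom.fst ≫ μ' = μ ≫ p.map φ.hom.snd := fp_w φ
  rw [h3, h4] at hw'
  exact ((Category.id_comp _).symm.trans ((congrArg (· ≫ μ') (p.toFunctor.map_id _).symm).trans
    (hw'.trans ((congrArg (μ ≫ ·) (p.toFunctor.map_id _)).trans (Category.comp_id _)))))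

theorem main (h𝒳 : IsAlgStack Scheme.fppfPrecoverage 𝒳) (h𝒴 : IsAlgStack Scheme.fppfPrecoverage 𝒴)
    (f : 𝒳 ⥤ᵇ 𝒴) (x : Points 𝒳) {Q : 𝒳.obj → Prop} (hQ : Gerb.IsResGerbe Scheme.fppfPrecoverage 𝒳 x Q)
    {Q' : 𝒴.obj → Prop} (hQ' : Gerb.IsResGerbe Scheme.fppfPrecoverage 𝒴 (Points.map f x) Q')
    {k : Type u} [Field k] {a : Spec (CommRingCat.of k) ⟶ S} (p : FibCat.overCat (Over.mk a) ⥤ᵇ 𝒳)
    (hp : ∀ t : ↥(Over.mk a).left, Points.ofChart p t = x)
    (e : BasedFunctor.comp (FibCat.fpFst p p) (BasedFunctor.comp p f) ≅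
      BasedFunctor.comp (FibCat.fpSnd p p) (BasedFunctor.comp p f))
    (he : ∀ c, e.hom.toNatTrans.app c = f.map c.obj.iso.hom)
    (hiso : FibCat.IsEquivOver (FibCat.fpLift (FibCat.fpFst p p) (FibCat.fpSnd p p) e)) :
    ∃ g : AlgSt.fullSub 𝒳 Q ⥤ᵇ AlgSt.fullSub 𝒴 Q',
      Nonempty (BasedFunctor.comp g (AlgSt.subIncl 𝒴 Q') ≅ BasedFunctor.comp (AlgSt.subIncl 𝒳 Q) f) ∧
      FibCat.IsEquivOver g := by
  obtain ⟨g, ⟨i⟩⟩ := ResGerb16.exists_map h𝒴 f hQ hQ'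
  obtain ⟨-, hA, hr, hn, ⟨pt⟩, hs, hx⟩ := hQ
  obtain ⟨-, hA', hr', hn', hne', hs', -⟩ := hQ'
  haveI := hs; haveI := hs'; haveI := hne'
  haveI : Nonempty (Points (AlgSt.fullSub 𝒳 Q)) := ⟨pt⟩
  haveI : (AlgSt.subIncl 𝒳 Q).toFunctor.Full := inferInstanceAs (ObjectProperty.ι Q).Full
  haveI : (AlgSt.subIncl 𝒳 Q).toFunctor.Faithful := inferInstanceAs (ObjectProperty.ι Q).Faithful
  haveI : (AlgSt.subIncl 𝒴 Q').toFunctor.Full := inferInstanceAs (ObjectProperty.ι Q').Full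
  haveI : (AlgSt.subIncl 𝒴 Q').toFunctor.Faithful := inferInstanceAs (ObjectProperty.ι Q').Faithful
  have hm := isMono_of_fullyFaithful hA h𝒳 (AlgSt.subIncl 𝒳 Q)
  obtain ⟨p', ⟨ip⟩⟩ := exists_lift_of_mono hA h𝒳 hm p pt
    ((show Points.ofChart p (IsLocalRing.closedPoint k) = x from hp _).trans (hx pt).symm)
  let J := BasedFunctor.comp (AlgSt.subIncl 𝒳 Q) f
  have gA := hA.isStack.1
  have gY := h𝒴.isStack.1
  have hp' : ∀ (V : Over S) (g g' : V ⟶ Over.mk a), Good J (p'.obj (Over.mk g)) (p'.obj (Over.mk g')) := by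
    intro V l l' V' hV hV' b hb
    haveI := isHomLift_appIso_hom ip (Over.mk l) (U := V) rfl
    haveI := isHomLift_appIso_hom ip (Over.mk l') (U := V) rfl
    haveI : 𝒳.p.IsHomLift (𝟙 V) (appIso ip (Over.mk l)).symm.hom :=
      inferInstanceAs (𝒳.p.IsHomLift (𝟙 V) (appIso ip (Over.mk l)).inv)
    haveI : 𝒳.p.IsHomLift (𝟙 V) (appIso ip (Over.mk l')).symm.hom :=
      inferInstanceAs (𝒳.p.IsHomLift (𝟙 V) (appIso ip (Over.mk l')).inv)
    obtain ⟨μ, hμ, hu⟩ := ((good_of_isEquivOver h𝒳.isStack.1 gY f p e he hiso V l l').of_iso gY (V := V)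
      (appIso ip (Over.mk l)).symm (appIso ip (Over.mk l')).symm) V' hV hV' b hb
    exact ⟨ObjectProperty.homMk μ, hμ, fun μ' h' => ObjectProperty.hom_ext _ (hu μ'.hom h')⟩
  obtain ⟨K, hK, b, z, hzp, hzs, hzf⟩ := exists_fppf_pt hA hr hn
  have hG : ∀ ξ ξ', Good J ξ ξ' :=
    good_of_fppf hA h𝒴 hzp hzs hzf (good_field_transfer hA h𝒴 p' z hp')
  haveI hfu : J.toFunctor.Full := full_of_good gA gY hG
  haveI hfa : J.toFunctor.Faithful := faithful_of_good gA gY hG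
  let i' : g.toFunctor ⋙ (AlgSt.subIncl 𝒴 Q').toFunctor ≅ J.toFunctor := (BasedNatTrans.forgetful _ _).mapIso i
  haveI : (g.toFunctor ⋙ (AlgSt.subIncl 𝒴 Q').toFunctor).Full := Functor.Full.of_iso i'.symm
  haveI : (g.toFunctor ⋙ (AlgSt.subIncl 𝒴 Q').toFunctor).Faithful := Functor.Faithful.of_iso i'.symm
  haveI : g.toFunctor.Full := Functor.Full.of_comp_faithful _ (AlgSt.subIncl 𝒴 Q').toFunctor
  haveI : g.toFunctor.Faithful := Functor.Faithful.of_comp _ (AlgSt.subIncl 𝒴 Q').toFunctor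
  obtain ⟨K', hK', b', z', hzp', hzs', hzf'⟩ := exists_fppf_pt hA' hr' hn'
  exact ⟨g, ⟨i⟩, isEquivOver_of_isMono hA hA' (isMono_of_fullyFaithful hA hA' g) z' hzp' hzs' hzf'⟩

end Groth.Agent.GerbDesc16
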